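import Cfsg.Agent.Wr3.D8

/-! Standard subgroup `J₂`, additive doubling: the facts used on `Y₀ = J₂` and `Y = Aut J₂`.
`z` is 2-central, `d, e₁, …, e₄` represent the five lines through `z`, `r` of order 3 permutes the line `z, d, z d`,
`v = e₁ e₂`, `u = r v r⁻¹`, `w = r u r⁻¹` generate `4 × 4`. -/

set_option autoImplicit false

namespace Cfsg.Agent.J2R

variable {Y : Type*} [Group Y]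

/-- the local facts -/
structure Fr (Y₀ : Subgroup Y) (z d r a e₁ e₂ e₃ e₄ : Y) : Prop where
  zY : z ∈ Y₀
  rY : r ∈ Y₀
  aY : a ∈ Y₀
  z1 : z ≠ 1
  rz : r * z * r⁻¹ = d
  rd : r * d * r⁻¹ = z * d
  r3 : r * (r * (r * (e₁ * e₂) * r⁻¹) * r⁻¹) * r⁻¹ = e₁ * e₂
  az : a * z * a⁻¹ = z
  a1 : a * e₁ * a⁻¹ = d
  a2 : a * e₂ * a⁻¹ = e₁
  a3 : a * e₃ * a⁻¹ = e₂
  a4 : a * e₄ * a⁻¹ = e₃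
  s1 : d * e₁ * (d * e₁) = z
  s2 : d * e₂ * (d * e₂) = z
  s3 : d * e₃ * (d * e₃) = z
  s4 : d * e₄ * (d * e₄) = z
  five : d * e₁ * e₂ * e₃ * e₄ = 1
  u1 : (r * (e₁ * e₂) * r⁻¹)⁻¹ * e₁ * (r * (e₁ * e₂) * r⁻¹) = e₂
  u2 : (r * (e₁ * e₂) * r⁻¹)⁻¹ * e₂ * (r * (e₁ * e₂) * r⁻¹) = e₁ * z
  w1 : (r⁻¹ * (e₁ * e₂) * r)⁻¹ * e₁ * (r⁻¹ * (e₁ * e₂) * r) = e₂
  w2 : (r⁻¹ * (e₁ * e₂) * r)⁻¹ * e₂ * (r⁻¹ * (e₁ * e₂) * r) = e₁ * z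
  wuv : r⁻¹ * (e₁ * e₂) * r * (r * (e₁ * e₂) * r⁻¹) * (e₁ * e₂) = 1
  /-- `C_Y(O₂(C(z))) = ⟨z⟩` -/
  cen : ∀ x, x * e₁ = e₁ * x → x * e₂ = e₂ * x → x * (e₃ * e₄) = e₃ * e₄ * x → x * (e₃ * d) = e₃ * d * x →
    x = 1 ∨ x = z
  /-- the elements inverting `⟨u, v⟩` are outer and induce a transposition on the five lines -/
  out : ∀ m, m * (e₁ * e₂) * m⁻¹ = e₁ * e₂ * z → m * (r * (e₁ * e₂) * r⁻¹) * m⁻¹ = r * (e₁ * e₂) * r⁻¹ * d →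
    ∃ b ∈ Y₀, ∃ p, p = b * m ∧ p * d * p⁻¹ = d ∧ p * e₁ * p⁻¹ = e₂ ∧ p * e₂ * p⁻¹ = e₁ ∧
      p * e₃ * p⁻¹ = e₃ * z ∧ p * e₄ * p⁻¹ = e₄

/-- `(x, y)` is conjugate to `(e₁, e₂)` -/
def Pr (Y₀ : Subgroup Y) (e₁ e₂ x y : Y) : Prop := ∃ k ∈ Y₀, k * e₁ * k⁻¹ = x ∧ k * e₂ * k⁻¹ = y

/-- the generating set: conjugates of `e₁`, pairwise conjugate to `(e₁, e₂)` -/
structure Dl (Y₀ : Subgroup Y) (e₁ e₂ : Y) (Δ : Set Y) : Prop where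
  gen : Y₀ ≤ Subgroup.closure Δ
  cl : ∀ x ∈ Δ, ∃ k ∈ Y₀, k * e₁ * k⁻¹ = x
  pr : ∀ x ∈ Δ, ∀ y ∈ Δ, x = y ∨ Pr Y₀ e₁ e₂ x y ∨ Pr Y₀ e₁ e₂ y x

/-- everything that has to be certified, for the line `z, d, z d` -/
def All (Y₀ : Subgroup Y) (z d : Y) : Prop :=
  ∃ r a e₁ e₂ e₃ e₄ Δ, Fr Y₀ z d r a e₁ e₂ e₃ e₄ ∧ Dl Y₀ e₁ e₂ Δ

end Cfsg.Agent.J2R
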