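import Cfsg.Agent.J2R.Def
import Cfsg.Agent.Wr3.D9

/-! Standard subgroup `J₂`: additive doubling gives commuting factors. -/

set_option autoImplicit false
set_option linter.unusedSectionVars false
set_option linter.unusedSimpArgs false

namespace Cfsg.Agent.J2R

open Subgroup Cfsg.Agent.Wr

universe v

variable {M G : Type*} [Group M] [Group G] {ι : M →* G} {t : G} {z : M} {f : M → G}

theorem back {a x y : M} (e : a * x * a⁻¹ = y) : a⁻¹ * y * a⁻¹⁻¹ = x := by rw [← e]; group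

theorem cj_mul (k x y : M) : k * (x * y) * k⁻¹ = k * x * k⁻¹ * (k * y * k⁻¹) := by group

/-- `x` is on an additive line through `z` -/
def Ln (z : M) (f : M → G) (x : M) : Prop := Cl z x ∧ Cl z (x * z) ∧ f (x * z) = f x * f z

theorem Ln.conj (h : Dbl ι t z f) {x y k : M} (l : Ln z f x) (kz : k * z * k⁻¹ = z) (e : k * x * k⁻¹ = y) :
    Ln z f y := by
  have a := h.add_conj l.1 (cl_self z) l.2.1 l.2.2 k
  have b := l.2.1.conj k
  rw [cj_mul] at b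
  rw [kz, e] at a b
  exact ⟨e ▸ l.1.conj k, b, a⟩

theorem sq_conj {x y x' y' k : M} (s : x * y * (x * y) = z) (kz : k * z * k⁻¹ = z) (e : k * x * k⁻¹ = x')
    (e' : k * y * k⁻¹ = y') : x' * y' * (x' * y') = z := by
  rw [← kz, ← s, ← e, ← e']; group

/-- the field case -/
def Kz (ι : M →* G) (z : M) (f : M → G) (x y : M) : Prop := f x * f y * (f x * f y) * f z = ι z

theorem Kz.conj (h : Dbl ι t z f) {x y x' y' k : M} (hx : Cl z x) (hy : Cl z y) (s : Kz ι z f x y)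
    (kz : k * z * k⁻¹ = z) (e : k * x * k⁻¹ = x') (e' : k * y * k⁻¹ = y') : Kz ι z f x' y' := by
  unfold Kz at *
  have := h.eqv k z (cl_self z)
  rw [kz] at this
  rw [← e, ← e', h.eqv k x hx, h.eqv k y hy, this]
  conv_rhs => rw [← kz, map_mul, map_mul, map_inv, ← s]
  group

theorem Kz.swap (h : Dbl ι t z f) {x y : M} (lx : Ln z f x) (ly : Ln z f y) (s : x * y * (x * y) = z)
    (k : Kz ι z f x y) (w : G) : f y * (f x * w) = f x * (f y * (f z * (ι z * w))) := by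
  have R := h.d8_rw lx.1 ly.1 (cl_self z) s lx.2.2 ly.2.2
  have e : ∀ w, f x * (f y * (f x * (f y * w))) = ι z * (f z * w) := fun w => by
    rw [← show f x * f y * (f x * f y) * f z = ι z from k]
    simp only [mul_assoc, R]
  calc _ = f x * (f x * (f y * (f x * (f y * (f y * w))))) := by simp only [R]
    _ = _ := by rw [e]; simp only [mul_assoc, R]

/-- the action of `f x * f y` -/
structure Hat (ι : M →* G) (t : G) (f : M → G) (X : G) (c c' v u w : M) : Prop where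
  ht : X * t * X⁻¹ = t * ι v * f c
  hv : X * ι v * X⁻¹ = ι v
  hu : X * ι u * X⁻¹ = ι u * ι c
  hw : X * ι w * X⁻¹ = ι w * ι c
  fc : X * f c * X⁻¹ = f c
  fc' : X * f c' * X⁻¹ = f c'
  ic : X * ι c * X⁻¹ = ι c
  ic' : X * ι c' * X⁻¹ = ι c'

theorem Hat.conj (h : Dbl ι t z f) {X : G} {c c' v u w : M} (H : Hat ι t f X c c' v u w) (hc : Cl z c)
    (hc' : Cl z c') (k : M) : Hat ι t f (ι k * X * (ι k)⁻¹) (k * c * k⁻¹) (k * c' * k⁻¹) (k * v * k⁻¹)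
      (k * u * k⁻¹) (k * w * k⁻¹) := by
  have key : ∀ {x y : G}, X * x * X⁻¹ = y →
      ι k * X * (ι k)⁻¹ * (ι k * x * (ι k)⁻¹) * (ι k * X * (ι k)⁻¹)⁻¹ = ι k * y * (ι k)⁻¹ := fun e => by
    rw [← e]; group
  have tk : ι k * t * (ι k)⁻¹ = t := by rw [← h.tA, mul_inv_cancel_right]
  have := key H.ht
  rw [tk, cj_mul, cj_mul, tk] at this
  constructor <;> simp only [h.eqv k _ hc, h.eqv k _ hc', map_mul, map_inv]
  exacts [this, key H.hv, (key H.hu).trans (cj_mul _ _ _), (key H.hw).trans (cj_mul _ _ _), key H.fc, key H.fc',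
    key H.ic, key H.ic']

section
variable (h : Dbl ι t z f) {N : Subgroup M} {d r a e₁ e₂ e₃ e₄ : M} (F : Fr N z d r a e₁ e₂ e₃ e₄)
  (hl : f (z * d) = f z * f d)
include h F hl

theorem lines : Ln z f d ∧ Ln z f e₁ ∧ Ln z f e₂ ∧ Ln z f e₃ ∧ Ln z f e₄ := by
  have hd := cl_of_conj F.rz
  have hzd : Cl z (z * d) := F.rd ▸ hd.conj r
  have c := D8.cm h.zz (h.sq hd) (h.sq hzd)
  have l0 : Ln z f d := ⟨hd, c ▸ hzd, by rw [← c, hl, (h.add_symm (cl_self z) hd hzd c hl).1]⟩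
  have l1 := l0.conj h (back F.az) (back F.a1)
  have l2 := l1.conj h (back F.az) (back F.a2)
  have l3 := l2.conj h (back F.az) (back F.a3)
  exact ⟨l0, l1, l2, l3, l3.conj h (back F.az) (back F.a4)⟩

omit h hl in
theorem sqs : e₁ * e₂ * (e₁ * e₂) = z ∧ e₁ * e₃ * (e₁ * e₃) = z ∧ e₁ * e₄ * (e₁ * e₄) = z ∧
    e₂ * e₃ * (e₂ * e₃) = z ∧ e₂ * e₄ * (e₂ * e₄) = z ∧ e₃ * e₄ * (e₃ * e₄) = z := by
  have s12 := sq_conj F.s1 (back F.az) (back F.a1) (back F.a2)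
  have s13 := sq_conj F.s2 (back F.az) (back F.a1) (back F.a3)
  have s23 := sq_conj s12 (back F.az) (back F.a2) (back F.a3)
  exact ⟨s12, s13, sq_conj F.s3 (back F.az) (back F.a1) (back F.a4), s23,
    sq_conj s13 (back F.az) (back F.a2) (back F.a4), sq_conj s23 (back F.az) (back F.a3) (back F.a4)⟩

/-- no element of `M` induces a transposition on the five lines -/
theorem five (K : Kz ι z f e₁ e₂) {p : M} (p0 : p * d * p⁻¹ = d) (p1 : p * e₁ * p⁻¹ = e₂)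
    (p2 : p * e₂ * p⁻¹ = e₁) (p3 : p * e₃ * p⁻¹ = e₃ * z) (p4 : p * e₄ * p⁻¹ = e₄) : False := by
  obtain ⟨l0, l1, l2, l3, l4⟩ := lines h F hl
  obtain ⟨s12, s13, s14, s23, s24, s34⟩ := sqs F
  have R := fun {x y : M} (lx : Ln z f x) (ly : Ln z f y) s =>
    h.d8_rw lx.1 ly.1 (cl_self z) s lx.2.2 ly.2.2
  have R01 := R l0 l1 F.s1
  have R02 := R l0 l2 F.s2
  have R03 := R l0 l3 F.s3
  have R04 := R l0 l4 F.s4
  have R12 := R l1 l2 s12
  have R13 := R l1 l3 s13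
  have R14 := R l1 l4 s14
  have R23 := R l2 l3 s23
  have R24 := R l2 l4 s24
  have R34 := R l3 l4 s34
  have e5 : ∀ w, ι d * (ι e₁ * (ι e₂ * (ι e₃ * (ι e₄ * w)))) = w := fun w => by
    simp only [← mul_assoc, ← map_mul, F.five, map_one, one_mul]
  have c5 : ∀ x, x = d ∨ x = e₁ ∨ x = e₂ ∨ x = e₃ ∨ x = e₄ →
      ι x * (f d * f e₁ * f e₂ * f e₃ * f e₄) = f d * f e₁ * f e₂ * f e₃ * f e₄ * ι x := by
    rintro _ (rfl | rfl | rfl | rfl | rfl) <;> refine D8.one ?_ <;>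
      simp only [mul_assoc, R01.2.1, R01.2.2.1, R02.2.1, R02.2.2.1, R03.2.1, R03.2.2.1, R04.2.1, R04.2.2.1,
        R12.2.1, R12.2.2.1, R13.2.1, R13.2.2.1, R14.2.1, R14.2.2.1, R23.2.1, R23.2.2.1, R24.2.1, R24.2.2.1,
        R34.2.1, R34.2.2.1, R01.2.2.2.2]
  obtain ⟨n, hn, e⟩ := h.cen (x := f d * f e₁ * f e₂ * f e₃ * f e₄) (D8.one (by
      simp only [mul_assoc, R01.1, R12.1, R34.1, R01.2.1, R01.2.2.1, R02.2.1, R02.2.2.1, R03.2.1, R03.2.2.1,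
        R04.2.1, R04.2.2.1, R12.2.1, R12.2.2.1, R13.2.1, R13.2.2.1, R14.2.1, R14.2.2.1, R23.2.1, R23.2.2.1,
        R24.2.1, R24.2.2.1, R34.2.1, R34.2.2.1, R01.2.2.2.2, e5])) c5 (Q := fun n => n = 1 ∨ n = z)
    fun n hn => by
      have c0 : Commute n d := (hn _ (by simp)).symm
      have c3 : Commute n e₃ := (hn _ (by simp)).symm
      have c4 : Commute n e₄ := (hn _ (by simp)).symm
      exact F.cen n (hn _ (by simp)).symm (hn _ (by simp)).symm (c3.mul_right c4) (c3.mul_right c0)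
  have pz : p * z = z * p := by
    rw [← conj_eq_iff]
    conv_lhs => rw [← F.s4]
    rw [cj_mul, cj_mul, p0, p4, F.s4]
  have pn : ι p * ι n * (ι p)⁻¹ = ι n := by
    rw [conj_eq_iff]
    rcases hn with rfl | rfl
    exacts [by simp, h.cι pz]
  have py : ι p * (f d * f e₁ * f e₂ * f e₃ * f e₄) * (ι p)⁻¹ = f d * f e₁ * f e₂ * f e₃ * f e₄ := by
    rcases e with e | e <;> rw [e]
    exacts [pn, by rw [cj_mul, pn, ← h.tA, mul_inv_cancel_right]]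
  rw [cj_mul, cj_mul, cj_mul, cj_mul, ← h.eqv p _ l0.1, ← h.eqv p _ l1.1, ← h.eqv p _ l2.1, ← h.eqv p _ l3.1,
    ← h.eqv p _ l4.1, p0, p1, p2, p3, p4, l3.2.2] at py
  have : f d * (f e₁ * (f e₂ * (f e₃ * (f e₄ * (ι z * 1))))) = f d * (f e₁ * (f e₂ * (f e₃ * (f e₄ * 1)))) := by
    have py' := congrArg (· * (1 : G)) py
    beta_reduce at py'
    simpa only [mul_assoc, K.swap h l1 l2 s12, R34.2.1, R34.2.2.1, R34.2.2.2.2] using py'
  exact F.z1 (h.inj (by simpa using this))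

theorem hat (K : Kz ι z f e₁ e₂) :
    Hat ι t f (f e₁ * f e₂) z d (e₁ * e₂) (r * (e₁ * e₂) * r⁻¹) (r⁻¹ * (e₁ * e₂) * r) := by
  obtain ⟨l0, l1, l2, -⟩ := lines h F hl
  obtain ⟨s12, -⟩ := sqs F
  have R01 := h.d8_rw l0.1 l1.1 (cl_self z) F.s1 l0.2.2 l1.2.2
  have R02 := h.d8_rw l0.1 l2.1 (cl_self z) F.s2 l0.2.2 l2.2.2
  have R12 := h.d8_rw l1.1 l2.1 (cl_self z) s12 l1.2.2 l2.2.2
  obtain ⟨a1, a2⟩ := h.d8_2 l1.1 l2.1 (cl_self z) s12 l1.2.2 l2.2.2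
  have a3 := h.d8_5 l1.1 l2.1 (cl_self z) s12 l1.2.2 l2.2.2 K h.zz F.u1 F.u2
  have a4 := h.d8_5 l1.1 l2.1 (cl_self z) s12 l1.2.2 l2.2.2 K h.zz F.w1 F.w2
  have K1 := K.conj h l1.1 l2.1 F.az F.a1 F.a2
  have ud : (r * (e₁ * e₂) * r⁻¹)⁻¹ * d * (r * (e₁ * e₂) * r⁻¹)⁻¹⁻¹ = d := by
    rw [← F.rz, ← s12]; group
  have u1 : (r * (e₁ * e₂) * r⁻¹)⁻¹ * e₁ * (r * (e₁ * e₂) * r⁻¹)⁻¹⁻¹ = e₂ := by rw [inv_inv, F.u1]
  have K2 := K1.conj h l0.1 l1.1 (by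
    conv_lhs => rw [← F.s1]
    rw [cj_mul, cj_mul, ud, u1, F.s2]) ud u1
  refine ⟨a1, conj_eq_iff.2 a2, by rw [a3, map_mul], by rw [a4, map_mul], ?_, ?_, ?_, ?_⟩ <;>
    refine conj_eq_iff.2 (D8.one ?_) <;>
    simp only [mul_assoc, K1.swap h l0 l1 F.s1, K2.swap h l0 l2 F.s2, R01.2.1, R01.2.2.1, R02.2.1, R02.2.2.1,
      R12.2.1, R01.2.2.2.2]

theorem not_K (K : Kz ι z f e₁ e₂) : False := by
  obtain ⟨l0, l1, l2, -⟩ := lines h F hl
  obtain ⟨s12, -⟩ := sqs F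
  have hz := cl_self z
  have Hv := hat h F hl K
  have Hu := Hv.conj h hz l0.1 r
  have Hw := Hv.conj h hz l0.1 r⁻¹
  have zd : z * d = d * z := D8.cm h.zz (h.sq l0.1) (h.sq (F.rd ▸ l0.1.conj r))
  have r1 : r * (z * d) * r⁻¹ = z := by rw [cj_mul, F.rz, F.rd, zd, ← mul_assoc, h.sq l0.1, one_mul]
  have r2 : r * (r * (e₁ * e₂) * r⁻¹) * r⁻¹ = r⁻¹ * (e₁ * e₂) * r := by simpa using (back F.r3).symm
  have r3 : r * (r⁻¹ * (e₁ * e₂) * r) * r⁻¹ = e₁ * e₂ := by group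
  rw [F.rz, F.rd, r2, r3] at Hu
  rw [back r1, back F.rz, back r3, back rfl, back r2] at Hw
  have wuv := F.wuv
  have out := F.out
  have vz : e₁ * e₂ * z = z * (e₁ * e₂) := by rw [← s12]; group
  have vd : e₁ * e₂ * d = d * (e₁ * e₂) := h.inj (by simpa only [map_mul] using (by
    have R01 := h.d8_rw l0.1 l1.1 hz F.s1 l0.2.2 l1.2.2
    have R02 := h.d8_rw l0.1 l2.1 hz F.s2 l0.2.2 l2.2.2
    exact D8.one (by simp only [mul_assoc, R01.2.2.2.1, R02.2.2.2.1, R01.2.2.2.2]) :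
      ι e₁ * ι e₂ * ι d = ι d * (ι e₁ * ι e₂)))
  have ud := conj_comm (g := r) vz
  have uz := conj_comm (g := r) (Commute.mul_right vz vd)
  have wz := conj_comm (g := r⁻¹) vd
  have wd := conj_comm (g := r⁻¹) vz
  rw [F.rz] at ud
  rw [r1] at uz
  rw [back F.rz, inv_inv] at wz
  rw [back r1, inv_inv] at wd
  replace wd : r⁻¹ * (e₁ * e₂) * r * d = d * (r⁻¹ * (e₁ * e₂) * r) := by
    simpa [h.sq hz, ← mul_assoc] using ((show Commute _ z from wz).mul_right wd).eq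
  generalize r * (e₁ * e₂) * r⁻¹ = u at *
  generalize r⁻¹ * (e₁ * e₂) * r = w at *
  generalize ι r * (f e₁ * f e₂) * (ι r)⁻¹ = U at *
  generalize ι r⁻¹ * (f e₁ * f e₂) * (ι r⁻¹)⁻¹ = W at *
  generalize f e₁ * f e₂ = V at *
  generalize e₁ * e₂ = v at *
  have sp : ∀ {X x y : G}, X * x * X⁻¹ = x → X * (x * y) * X⁻¹ = x * y → X * y * X⁻¹ = y := fun a b => by
    rwa [cj_mul, a, mul_right_inj] at b
  have fzd : f z * f d = f d * f z := (h.add_symm hz l0.1 (F.rd ▸ l0.1.conj r) zd hl).1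
  have U1 := sp Hu.fc (by rw [← fzd, ← hl]; exact Hu.fc')
  have U2 := sp Hu.ic (by rw [← map_mul, ← zd]; exact Hu.ic')
  have W1 := sp Hw.fc' (by rw [← hl]; exact Hw.fc)
  have W2 := sp Hw.ic' (by rw [← map_mul]; exact Hw.ic)
  have ass : ∀ x : G, f d * W * U * V * x * (f d * W * U * V)⁻¹ =
      f d * (W * (U * (V * x * V⁻¹) * U⁻¹) * W⁻¹) * (f d)⁻¹ := fun x => by group
  have fz := D8.l1 (h.ff hz)
  have fd := D8.l1 (h.ff l0.1)
  have iz := D8.l1 (h.ιι hz)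
  have id := D8.l1 (h.ιι l0.1)
  have e3 : ∀ x, ι w * (ι u * (ι v * x)) = x := fun x => by
    simp only [← mul_assoc, ← map_mul, wuv, map_one, one_mul]
  have c := fun {x : M} (a : x * z = z * x) (b : x * d = d * x) =>
    And.intro (And.intro (D8.sw (h.cf hz a)) (D8.sw (h.cf l0.1 b)))
      (And.intro (D8.sw (h.cι a.symm)) (D8.sw (h.cι b.symm)))
  have cu := c uz ud
  have cv := c vz vd
  have cw := c wz wd
  have cz := (c rfl zd).1
  have cd := (c zd.symm rfl).1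
  have fc : f d * W * U * V * f z * (f d * W * U * V)⁻¹ = f z := by
    rw [ass, Hv.fc, U1, Hw.fc', conj_eq_iff, fzd]
  have ic : f d * W * U * V * ι z * (f d * W * U * V)⁻¹ = ι z := by
    rw [ass, Hv.ic, U2, Hw.ic', conj_eq_iff, h.cf l0.1 zd]
  obtain ⟨m, mz, e⟩ := h.cen (x := f d * W * U * V) (conj_eq_iff.1 (by
      rw [ass, Hv.ht]
      simp only [cj_mul W, cj_mul U, Hu.ht, Hu.hw, U1, Hw.ht, Hw.hu, Hw.hw, Hw.fc', W1, W2, hl, map_mul]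
      refine D8.one ?_
      simp only [mul_assoc, fz, fd, iz, id, cu, cv, cw, cz, cd, D8.sw fzd, D8.sw (h.cι zd.symm), e3]
      simp only [← mul_assoc, h.fft l0.1]
      rw [mul_assoc t, h.ιι l0.1, mul_one])) (P := fun l => l = z)
    (fun _ a => a ▸ (conj_eq_iff.1 ic).symm) (Q := fun m => z * m = m * z) fun _ a => a _ rfl
  rcases e with e | e
  · obtain ⟨-, -, p, -, p0, p1, p2, p3, p4⟩ := out m (h.inj (by
      rw [map_mul, map_mul, map_inv, ← e, ass, Hv.hv]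
      simp only [cj_mul W, cj_mul U, Hu.hw, Hw.hu, W2, map_mul]
      exact D8.one (by simp only [mul_assoc, fd, iz, id, cv, cz, cd, D8.sw (h.cι zd.symm)]))) (h.inj (by
      rw [map_mul, map_mul, map_inv, ← e, ass, Hv.hu]
      simp only [cj_mul W, cj_mul U, Hu.hv, U2, Hw.hw, Hw.ic', map_mul]
      exact D8.one (by simp only [mul_assoc, fd, iz, id, cu, cz, cd, D8.sw (h.cι zd.symm)])))
    exact five h F hl K p0 p1 p2 p3 p4
  · rw [e, conj_eq_iff, mul_assoc, ← mul_assoc (f z), ← h.cf hz mz.symm, mul_assoc, mul_right_inj] at fc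
    exact F.z1 (h.eq_one_of_comm hz fc)

theorem rel : Rel t f e₁ e₂ := by
  obtain ⟨l0, l1, l2, l3, l4⟩ := lines h F hl
  obtain ⟨s12, s13, s14, s23, s24, -⟩ := sqs F
  have ne : e₁ ≠ e₂ := fun e => F.z1 (by rw [← s12, e, h.sq l2.1, one_mul])
  obtain ⟨k, hk, -, k1, k2, k3⟩ := h.d8_3 l1.1 l2.1 (cl_self z) s12 l1.2.2 l2.2.2 ne
  have cm : ∀ {x y y' : M}, Ln z f x → Ln z f y → Ln z f y' → x * y * (x * y) = z → x * y' * (x * y') = z →
      y * y' * x = x * (y * y') := fun lx ly ly' s s' => h.inj (by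
    have R := h.d8_rw lx.1 ly.1 (cl_self z) s lx.2.2 ly.2.2
    have R' := h.d8_rw lx.1 ly'.1 (cl_self z) s' lx.2.2 ly'.2.2
    simp only [map_mul]
    exact D8.one (by simp only [mul_assoc, R.2.2.2.1, R'.2.2.2.1, R.2.2.2.2]))
  have sy : ∀ {x y : M}, Ln z f x → Ln z f y → x * y * (x * y) = z → y * x * (y * x) = z := fun lx ly s => by
    rw [← inv_eq_of_sq h.zz, ← s]
    simp only [mul_inv_rev, inv_eq_of_sq (h.sq lx.1), inv_eq_of_sq (h.sq ly.1)]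
  rcases F.cen k k1 k2 (k3 _ (cm l1 l3 l4 s13 s14) (cm l2 l3 l4 s23 s24)).symm
    (k3 _ (cm l1 l3 l0 s13 (sy l0 l1 F.s1)) (cm l2 l3 l0 s23 (sy l0 l2 F.s2))).symm with rfl | rfl
  · exact h.d8_rel l1.1 l2.1 (cl_self z) s12 l1.2.2 l2.2.2 (hk.trans (map_one ι))
  · exact (not_K h F hl hk).elim

end

variable {Y : Type*} [Group Y] {Y₀ : Subgroup Y}

theorem Fr.sub {z d r a e₁ e₂ e₃ e₄ : Y} (F : Fr Y₀ z d r a e₁ e₂ e₃ e₄) {M : Subgroup Y} (hM : Y₀ ≤ M) :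
    ∃ z' d' r' a' e₁' e₂' e₃' e₄' : M, Fr ⊤ z' d' r' a' e₁' e₂' e₃' e₄' ∧ (z' : Y) = z ∧ (d' : Y) = d ∧
      (e₁' : Y) = e₁ ∧ (e₂' : Y) = e₂ := by
  have cj : ∀ {k x y : Y}, k ∈ M → x ∈ M → k * x * k⁻¹ = y → y ∈ M := fun a b e =>
    e ▸ mul_mem (mul_mem a b) (inv_mem a)
  have m0 := cj (hM F.rY) (hM F.zY) F.rz
  have m1 := cj (inv_mem (hM F.aY)) m0 (back F.a1)
  have m2 := cj (inv_mem (hM F.aY)) m1 (back F.a2)
  have m3 := cj (inv_mem (hM F.aY)) m2 (back F.a3)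
  have m4 := cj (inv_mem (hM F.aY)) m3 (back F.a4)
  refine ⟨⟨z, hM F.zY⟩, ⟨d, m0⟩, ⟨r, hM F.rY⟩, ⟨a, hM F.aY⟩, ⟨e₁, m1⟩, ⟨e₂, m2⟩, ⟨e₃, m3⟩, ⟨e₄, m4⟩,
    ⟨trivial, trivial, trivial, fun e => F.z1 (congrArg Subtype.val e), Subtype.ext F.rz, Subtype.ext F.rd,
      Subtype.ext F.r3, Subtype.ext F.az, Subtype.ext F.a1, Subtype.ext F.a2, Subtype.ext F.a3, Subtype.ext F.a4,
      Subtype.ext F.s1, Subtype.ext F.s2, Subtype.ext F.s3, Subtype.ext F.s4, Subtype.ext F.five,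
      Subtype.ext F.u1, Subtype.ext F.u2, Subtype.ext F.w1, Subtype.ext F.w2, Subtype.ext F.wuv,
      fun x a b c d => (F.cen x (congrArg Subtype.val a) (congrArg Subtype.val b) (congrArg Subtype.val c)
        (congrArg Subtype.val d)).imp Subtype.ext Subtype.ext, fun m a b => ?_⟩, rfl, rfl, rfl, rfl⟩
  obtain ⟨b, hb, _, rfl, p0, p1, p2, p3, p4⟩ := F.out m (congrArg Subtype.val a) (congrArg Subtype.val b)
  exact ⟨⟨b, hM hb⟩, trivial, _, rfl, Subtype.ext p0, Subtype.ext p1, Subtype.ext p2, Subtype.ext p3,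
    Subtype.ext p4⟩

/-- **Package R.** -/
theorem db {z d : Y} (F : All Y₀ z d) : ∃ Δ : Set Y, (∀ a ∈ Δ, ∃ k ∈ Y₀, k * z * k⁻¹ = a) ∧ Y₀ ≤ closure Δ ∧
    ∀ M : Subgroup Y, Y₀ ≤ M → ∀ (Γ : Type v) [Group Γ] (ι : M →* Γ) (t : Γ) (z' d' : M) (f : M → Γ),
      (z' : Y) = z → (d' : Y) = d → Dbl ι t z' f → f (z' * d') = f z' * f d' →
        ∀ a b : M, (a : Y) ∈ Δ → (b : Y) ∈ Δ → Rel t f a b := by
  obtain ⟨r, a, e₁, e₂, e₃, e₄, Δ, F, D⟩ := F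
  have hc : ∀ x ∈ Δ, ∃ k ∈ Y₀, k * z * k⁻¹ = x := fun x hx => by
    obtain ⟨k, hk, rfl⟩ := D.cl x hx
    exact ⟨k * a⁻¹ * r, mul_mem (mul_mem hk (inv_mem F.aY)) F.rY, by rw [← back F.a1, ← F.rz]; group⟩
  refine ⟨Δ, hc, D.gen, fun M hM Γ _ ι t z' d' f ez ed h hl x y hx hy => ?_⟩
  obtain ⟨z'', d'', r', a', e₁', e₂', e₃', e₄', F', ez', ed', e1, e2⟩ := F.sub hM
  obtain rfl : z'' = z' := Subtype.ext (ez'.trans ez.symm)
  obtain rfl : d'' = d' := Subtype.ext (ed'.trans ed.symm)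
  obtain ⟨-, l1, l2, -⟩ := lines h F' hl
  have key : ∀ x y : M, Pr Y₀ e₁ e₂ x y → Rel t f x y := by
    rintro x y ⟨k, hk, a, b⟩
    have := h.rel_conj l1.1 l2.1 (rel h F' hl) ⟨k, hM hk⟩
    rwa [show ⟨k, hM hk⟩ * e₁' * (⟨k, hM hk⟩ : M)⁻¹ = x from Subtype.ext (by rw [← a, ← e1]; rfl),
      show ⟨k, hM hk⟩ * e₂' * (⟨k, hM hk⟩ : M)⁻¹ = y from Subtype.ext (by rw [← b, ← e2]; rfl)] at this
  rcases D.pr _ hx _ hy with e | e | e
  · obtain rfl : x = y := Subtype.ext e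
    obtain ⟨k, hk, e⟩ := hc _ hx
    exact h.rel_self (cl_of_conj (k := ⟨k, hM hk⟩) (Subtype.ext (by rw [← e, ← ez]; rfl)))
  · exact key _ _ e
  · exact h.rel_symm (key _ _ e)

end Cfsg.Agent.J2R
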